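import Groth.Prelude.Def_HopfRep
import Mathlib.RingTheory.Bialgebra.MonoidAlgebra
import Mathlib.LinearAlgebra.TensorProduct.Finiteness
import Mathlib.LinearAlgebra.DirectSum.Finsupp

/-!
# Weight decomposition of comodules over a group algebra
-/

open TensorProduct HopfRep

universe u v w

namespace Groth.Agent.WeightH28

variable {k : Type u} [CommRing k] {M : Type v} [AddCommMonoid M]
variable {V : Type w} [AddCommGroup V] [Module k V]

/-- The coefficient of `[a]` in `V ⊗ k[M]`. -/
noncomputable def coef (a : M) : V ⊗[k] AddMonoidAlgebra k M →ₗ[k] V :=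
  (TensorProduct.rid k V).toLinearMap ∘ₗ
    ((Finsupp.lapply a).comp (AddMonoidAlgebra.coeffLinearEquiv k).toLinearMap).lTensor V

lemma coef_tmul_single [DecidableEq M] (a b : M) (v : V) (c : k) :
    coef a (v ⊗ₜ[k] AddMonoidAlgebra.single b c) = if b = a then c • v else 0 := by
  simp only [coef, LinearMap.comp_apply, LinearMap.lTensor_tmul, LinearEquiv.coe_coe, TensorProduct.rid_tmul,
    AddMonoidAlgebra.coeffLinearEquiv_apply, AddMonoidAlgebra.coeff_single, Finsupp.lapply_apply,
    Finsupp.single_apply]
  split_ifs <;> simp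

lemma exists_support (t : V ⊗[k] AddMonoidAlgebra k M) :
    ∃ s : Finset M, (∀ a ∉ s, coef a t = 0) ∧ ∑ a ∈ s, coef a t ⊗ₜ[k] AddMonoidAlgebra.single a (1 : k) = t := by
  classical
  induction t with
  | zero => exact ⟨∅, by simp, by simp⟩
  | add p q hp hq =>
    obtain ⟨s, hs, hs'⟩ := hp
    obtain ⟨s', ht, ht'⟩ := hq
    refine ⟨s ∪ s', fun a ha => ?_, ?_⟩
    · rw [Finset.notMem_union] at ha
      rw [map_add, hs a ha.1, ht a ha.2, add_zero]
    · simp only [map_add, TensorProduct.add_tmul, Finset.sum_add_distrib]
      rw [← Finset.sum_subset Finset.subset_union_left (fun a _ ha => by rw [hs a ha, TensorProduct.zero_tmul]),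
        hs', ← Finset.sum_subset Finset.subset_union_right (fun a _ ha => by rw [ht a ha, TensorProduct.zero_tmul]),
        ht']
  | tmul v f =>
    induction f using AddMonoidAlgebra.induction_linear with
    | zero => exact ⟨∅, by simp, by simp⟩
    | add p q hp hq =>
      obtain ⟨s, hs, hs'⟩ := hp
      obtain ⟨s', ht, ht'⟩ := hq
      refine ⟨s ∪ s', fun a ha => ?_, ?_⟩
      · rw [Finset.notMem_union] at ha
        rw [TensorProduct.tmul_add, map_add, hs a ha.1, ht a ha.2, add_zero]
      · simp only [TensorProduct.tmul_add, map_add, TensorProduct.add_tmul, Finset.sum_add_distrib]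
        rw [← Finset.sum_subset Finset.subset_union_left (fun a _ ha => by rw [hs a ha, TensorProduct.zero_tmul]),
          hs', ← Finset.sum_subset Finset.subset_union_right (fun a _ ha => by rw [ht a ha, TensorProduct.zero_tmul]),
          ht']
    | single b c =>
      refine ⟨{b}, fun a ha => ?_, ?_⟩
      · rw [coef_tmul_single, if_neg fun h => ha (Finset.mem_singleton.2 h.symm)]
      · rw [Finset.sum_singleton, coef_tmul_single, if_pos rfl, TensorProduct.smul_tmul,
          AddMonoidAlgebra.smul_single, smul_eq_mul, mul_one]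

variable [Comod k (AddMonoidAlgebra k M) V]

variable (k) in
/-- The weight-`a` component of a vector. -/
noncomputable def part (a : M) : V →ₗ[k] V :=
  coef a ∘ₗ Comod.coact (k := k) (A := AddMonoidAlgebra k M)

lemma part_mem (a : M) (v : V) :
    part k a v ∈ eigenspace k (AddMonoidAlgebra k M) V (AddMonoidAlgebra.single a (1 : k)) := by
  classical
  show Comod.coact (k := k) (A := AddMonoidAlgebra k M) (part k a v) = part k a v ⊗ₜ[k] _
  let L : V ⊗[k] (AddMonoidAlgebra k M ⊗[k] AddMonoidAlgebra k M) →ₗ[k] V ⊗[k] AddMonoidAlgebra k M :=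
    ((TensorProduct.rid k (AddMonoidAlgebra k M)).toLinearMap ∘ₗ
      ((Finsupp.lapply a).comp (AddMonoidAlgebra.coeffLinearEquiv k).toLinearMap).lTensor _).lTensor V
  have hc := congrArg L (LinearMap.congr_fun (Comod.coassoc (k := k) (A := AddMonoidAlgebra k M) (V := V)) v)
  simp only [LinearMap.comp_apply, LinearEquiv.coe_coe] at hc
  have e1 : ∀ t : V ⊗[k] AddMonoidAlgebra k M,
      L (TensorProduct.assoc k V _ _ ((Comod.coact (k := k) (A := AddMonoidAlgebra k M)).rTensor _ t)) =
        Comod.coact (k := k) (A := AddMonoidAlgebra k M) (coef a t) := by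
    intro t
    induction t with
    | zero => simp
    | add p q hp hq => simp only [map_add, hp, hq]
    | tmul p f =>
      simp only [LinearMap.rTensor_tmul, coef, LinearMap.comp_apply, LinearMap.lTensor_tmul, LinearEquiv.coe_coe,
        TensorProduct.rid_tmul, map_smul]
      generalize Comod.coact (k := k) (A := AddMonoidAlgebra k M) p = d
      induction d with
      | zero => simp
      | add p q hp hq => simp only [TensorProduct.add_tmul, map_add, smul_add, hp, hq]
      | tmul p' q' => simp [L]
  have e2 : ∀ t : V ⊗[k] AddMonoidAlgebra k M,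
      L ((CoalgebraStruct.comul (R := k) (A := AddMonoidAlgebra k M)).lTensor V t) =
        coef a t ⊗ₜ[k] AddMonoidAlgebra.single a (1 : k) := by
    intro t
    induction t with
    | zero => simp
    | add p q hp hq => simp only [map_add, TensorProduct.add_tmul, hp, hq]
    | tmul p f =>
      induction f using AddMonoidAlgebra.induction_linear with
      | zero => simp
      | add f g hf hg => simp only [TensorProduct.tmul_add, map_add, TensorProduct.add_tmul, hf, hg]
      | single b c =>
        rw [coef_tmul_single]
        simp only [LinearMap.lTensor_tmul, AddMonoidAlgebra.comul_single, CommSemiring.comul_apply,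
          TensorProduct.map_tmul, AddMonoidAlgebra.lsingle_apply, L, LinearMap.comp_apply, LinearEquiv.coe_coe,
          TensorProduct.rid_tmul, AddMonoidAlgebra.coeffLinearEquiv_apply, AddMonoidAlgebra.coeff_single,
          Finsupp.lapply_apply, Finsupp.single_apply]
        by_cases hb : b = a
        · subst hb
          simp [TensorProduct.smul_tmul, AddMonoidAlgebra.smul_single]
        · simp [hb]
  rw [e1, e2] at hc
  exact hc

lemma exists_sum_part (v : V) :
    ∃ s : Finset M, (∀ a ∉ s, part k a v = 0) ∧ ∑ a ∈ s, part k a v = v ∧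
      Comod.coact (k := k) (A := AddMonoidAlgebra k M) v = ∑ a ∈ s, part k a v ⊗ₜ[k] AddMonoidAlgebra.single a (1 : k) := by
  obtain ⟨s, hs, hsum⟩ := exists_support (Comod.coact (k := k) (A := AddMonoidAlgebra k M) v)
  refine ⟨s, hs, ?_, hsum.symm⟩
  have h := congrArg (TensorProduct.rid k V) (LinearMap.congr_fun (Comod.counit_comp (k := k) (A := AddMonoidAlgebra k M) (V := V)) v)
  simp only [LinearMap.comp_apply] at h
  rw [← hsum] at h
  simpa [map_sum, part] using h

lemma part_of_mem [DecidableEq M] {a : M} {v : V}
    (hv : v ∈ eigenspace k (AddMonoidAlgebra k M) V (AddMonoidAlgebra.single a (1 : k))) (b : M) :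
    part k b v = if a = b then v else 0 := by
  show coef b (Comod.coact (k := k) (A := AddMonoidAlgebra k M) v) = _
  rw [show Comod.coact (k := k) (A := AddMonoidAlgebra k M) v = v ⊗ₜ[k] AddMonoidAlgebra.single a (1 : k) from hv,
    coef_tmul_single, one_smul]

end Groth.Agent.WeightH28
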